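import Groth.Agent.H02CA.Sky.Basic
import Groth.Agent.H16Derived.DTrunc
import Mathlib.Algebra.Homology.DerivedCategory.FullyFaithful

/-!
# Morphisms from bounded coherent complexes to a skyscraper
-/

set_option autoImplicit false
set_option linter.style.haveILetI false

universe u

open CategoryTheory CategoryTheory.Limits CategoryTheory.Pretriangulated AlgebraicGeometry
open DerivedCategory.TStructure

attribute [local instance] HasDerivedCategory.standard

namespace Groth.Agent.H02CA.Sky

open Groth.Agent.H16Derived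

variable {X : Scheme.{u}}

theorem support_congr {M N : X.Modules} (e : M ≅ N) {y : X} (h : y ∉ CohB1.support M) :
    y ∉ CohB1.support N := by
  haveI : Subsingleton (M.presheaf.stalk y) := not_not.1 h
  have hz : IsZero ((Scheme.Modules.toPresheaf X ⋙ TopCat.Presheaf.stalkFunctor Ab.{u} y).obj M) :=
    @AddCommGrpCat.isZero_of_subsingleton _ (inferInstanceAs (Subsingleton (M.presheaf.stalk y)))
  exact not_not.2 (AddCommGrpCat.subsingleton_of_isZero
    (hz.of_iso ((Scheme.Modules.toPresheaf X ⋙ TopCat.Presheaf.stalkFunctor Ab.{u} y).mapIso e).symm))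

theorem notMem_support_of_isZero {M : X.Modules} (h : IsZero M) (y : X) :
    y ∉ CohB1.support M :=
  not_not.2 (AddCommGrpCat.subsingleton_of_isZero
    ((Scheme.Modules.toPresheaf X ⋙ TopCat.Presheaf.stalkFunctor Ab.{u} y).map_isZero h))

/-- The truncation `τ≥n` of a bounded coherent complex vanishes near a point outside the
high-degree supports. -/
theorem exists_open_truncGE (K : DCoh.D X) (hK : DCoh.IsCohD K) (c : ℤ) [DerivedCategory.IsLE K c]
    (x : X) (n : ℤ) (h : ∀ i : ℤ, n ≤ i → x ∉ CohB1.support (DCoh.HD K i)) :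
    ∃ U : X.Opens, x ∈ U ∧ IsZero ((DCoh.restrictD U.ι).obj ((t.truncGE n).obj K)) := by
  classical
  let C : ℤ → X.Opens := fun i =>
    ⟨(CohB1.support (DCoh.HD K i))ᶜ, (H10Coh.isClosed_support _ (hK i).2).isOpen_compl⟩
  refine ⟨(Finset.Icc n c).inf C, H10Coh.finset_inf_mem _ C fun i hi => h i (Finset.mem_Icc.1 hi).1,
    isZero_rd fun i y hy => ?_⟩
  rcases lt_or_ge i n with hin | hin
  · haveI : DerivedCategory.IsGE ((t.truncGE n).obj K) n := inferInstanceAs (t.IsGE _ n)
    exact notMem_support_of_isZero (DerivedCategory.isZero_of_isGE _ n i hin) y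
  · haveI := DTrunc.isIso_homology_truncGEπ K n i hin
    let e : DCoh.HD K i ≅ DCoh.HD ((t.truncGE n).obj K) i :=
      asIso ((DerivedCategory.homologyFunctor X.Modules i).map ((t.truncGEπ n).app K))
    rcases lt_or_ge c i with hci | hci
    · exact support_congr e (notMem_support_of_isZero (K.isZero_of_isLE c i hci) y)
    · exact support_congr e ((Finset.inf_le (f := C) (Finset.mem_Icc.2 ⟨hin, hci⟩)) hy)

variable (x : X) (hx : IsClosed ({x} : Set X))

/-- The skyscraper in degree `i`. -/
noncomputable def skyShiftIso (i : ℤ) : (DerivedCategory.singleFunctor X.Modules i).obj (skyM x) ≅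
    (shiftFunctor (DCoh.D X) (-i)).obj (DCoh.inD X (skyM x)) :=
  (((DerivedCategory.singleFunctors X.Modules).shiftIso (-i) i 0 (by omega)).app (skyM x)).symm

/-- The complement of a closed point. -/
def offPt : X.Opens := ⟨({x} : Set X)ᶜ, hx.isOpen_compl⟩

theorem isZero_rd_sky (i : ℤ) :
    IsZero ((DCoh.restrictD (offPt x hx).ι).obj
      ((shiftFunctor (DCoh.D X) (-i)).obj (DCoh.inD X (skyM x)))) := by
  have h : IsZero ((DCoh.restrictD (offPt x hx).ι).obj
      ((DerivedCategory.singleFunctor X.Modules i).obj (skyM x))) := isZero_rd fun j y hy => ?_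
  · exact h.of_iso ((DCoh.restrictD (offPt x hx).ι).mapIso (skyShiftIso x i).symm)
  rcases eq_or_ne j i with rfl | hj
  · exact support_congr ((DerivedCategory.singleFunctorCompHomologyFunctorIso X.Modules j).app _).symm
      (support_skyM hx hy)
  · rcases lt_or_gt_of_ne hj with h | h
    · exact notMem_support_of_isZero (DerivedCategory.isZero_of_isGE _ i j h) y
    · exact notMem_support_of_isZero (DerivedCategory.isZero_of_isLE _ i j h) y

include hx in
theorem hom_to_sky_eq_zero_of_isZero_rd {L : DCoh.D X} {U : X.Opens} (hxU : x ∈ U)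
    (hU : IsZero ((DCoh.restrictD U.ι).obj L)) {i : ℤ}
    (φ : L ⟶ (shiftFunctor (DCoh.D X) (-i)).obj (DCoh.inD X (skyM x))) : φ = 0 := by
  refine hom_eq_zero_of_disjoint φ ?_ hU (isZero_rd_sky x hx i)
  rw [eq_top_iff]
  intro y _
  by_cases hy : y = x
  · exact Or.inl (hy ▸ hxU)
  · exact Or.inr hy

include hx in
/-- `H^i(K)_x = 0` for `i > b` iff there are no morphisms to the skyscraper in degrees `> b`. -/
theorem stalks_vanish_iff (K : DCoh.D X) (hK : DCoh.IsCohD K) (c : ℤ) [DerivedCategory.IsLE K c]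
    (b : ℤ) :
    (∀ i : ℤ, b < i → x ∉ CohB1.support (DCoh.HD K i)) ↔
      ∀ i : ℤ, b < i → ∀ φ : K ⟶ (shiftFunctor (DCoh.D X) (-i)).obj (DCoh.inD X (skyM x)),
        φ = 0 := by
  constructor
  · intro h i hi φ
    haveI : t.IsGE ((shiftFunctor (DCoh.D X) (-i)).obj (DCoh.inD X (skyM x))) i :=
      t.isGE_of_iso (skyShiftIso x i) i
    obtain ⟨U, hxU, hU⟩ := exists_open_truncGE K hK c x i fun j hj => h j (lt_of_lt_of_le hi hj)
    rw [← t.π_descTruncGE φ i, hom_to_sky_eq_zero_of_isZero_rd x hx hxU hU (t.descTruncGE φ i),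
      comp_zero]
  · intro h
    by_contra! hne
    obtain ⟨i₀, hi₀, hmem⟩ := hne
    have hbd : ∃ N : ℤ, ∀ i, b < i ∧ x ∈ CohB1.support (DCoh.HD K i) → i ≤ N := by
      refine ⟨c, fun i ⟨_, hi⟩ => ?_⟩
      by_contra! hci
      exact notMem_support_of_isZero (K.isZero_of_isLE c i hci) x hi
    obtain ⟨m, ⟨hbm, hm⟩, hmax⟩ := Int.exists_greatest_of_bdd hbd ⟨i₀, hi₀, hmem⟩
    let L := (t.truncGE m).obj K
    haveI : DerivedCategory.IsGE L m := inferInstanceAs (t.IsGE _ m)
    let L' := (t.truncLT (m + 1)).obj L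
    haveI : DerivedCategory.IsGE L' m := DTrunc.isGE_truncLT L (m + 1) m
    haveI : DerivedCategory.IsLE L' m :=
      inferInstanceAs (t.IsLE ((t.truncLT (m + 1)).obj L) m)
    obtain ⟨Y, ⟨e⟩⟩ := L'.exists_iso_singleFunctor_obj_of_isGE_of_isLE m
    haveI := DTrunc.isIso_homology_truncGEπ K m m le_rfl
    haveI := DTrunc.isIso_homology_truncLTι L (m + 1) m (by omega)
    let eY : Y ≅ DCoh.HD K m :=
      ((DerivedCategory.singleFunctorCompHomologyFunctorIso X.Modules m).app Y).symm ≪≫
        (DerivedCategory.homologyFunctor X.Modules m).mapIso e.symm ≪≫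
        asIso ((DerivedCategory.homologyFunctor X.Modules m).map ((t.truncLTι (m + 1)).app L)) ≪≫
        (asIso ((DerivedCategory.homologyFunctor X.Modules m).map ((t.truncGEπ m).app K))).symm
    obtain ⟨α, hα⟩ := exists_ne_zero_to_skyM hx (hK m).2 hm
    let g₁ : L' ⟶ (shiftFunctor (DCoh.D X) (-m)).obj (DCoh.inD X (skyM x)) :=
      e.hom ≫ (DerivedCategory.singleFunctor X.Modules m).map (eY.hom ≫ α) ≫ (skyShiftIso x m).hom
    have hg₁ : g₁ ≠ 0 := by
      intro h0
      refine hα ((cancel_epi eY.hom).1 ?_)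
      rw [comp_zero]
      apply (DerivedCategory.singleFunctor X.Modules m).map_injective
      rw [Functor.map_zero, ← cancel_epi e.hom, ← cancel_mono (skyShiftIso x m).hom]
      simpa [g₁] using h0
    obtain ⟨U, hxU, hU⟩ := exists_open_truncGE K hK c x (m + 1) fun i hi hsupp => by
      have := hmax i ⟨by omega, hsupp⟩
      omega
    have hU' : IsZero ((DCoh.restrictD U.ι).obj ((t.truncGE (m + 1)).obj L)) := by
      refine isZero_rd fun i y hy => ?_
      rcases lt_or_ge i (m + 1) with hi | hi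
      · haveI : DerivedCategory.IsGE ((t.truncGE (m + 1)).obj L) (m + 1) :=
          inferInstanceAs (t.IsGE _ (m + 1))
        exact notMem_support_of_isZero (DerivedCategory.isZero_of_isGE _ (m + 1) i hi) y
      · haveI := DTrunc.isIso_homology_truncGEπ L (m + 1) i hi
        haveI := DTrunc.isIso_homology_truncGEπ K m i (by omega)
        haveI := DTrunc.isIso_homology_truncGEπ K (m + 1) i hi
        let H := DerivedCategory.homologyFunctor X.Modules i
        exact support_congr ((asIso (H.map ((t.truncGEπ (m + 1)).app K))).symm ≪≫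
          asIso (H.map ((t.truncGEπ m).app K)) ≪≫ asIso (H.map ((t.truncGEπ (m + 1)).app L)))
            (exists_open_isZero_rd hU i hy)
    let T := (t.triangleLTGE (m + 1)).obj L
    have hT : T ∈ distTriang _ := t.triangleLTGE_distinguished (m + 1) L
    obtain ⟨ψ, hψ⟩ := Triangle.yoneda_exact₂ _ (inv_rot_of_distTriang _ hT) g₁
      (hom_to_sky_eq_zero_of_isZero_rd x hx hxU
        (((shiftFunctor _ (-1 : ℤ)).map_isZero hU').of_iso
          (((DCoh.restrictD U.ι).commShiftIso (-1 : ℤ)).app _)) _)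
    have hψ0 : (t.truncGEπ m).app K ≫ ψ = 0 := h m hbm _
    haveI : t.IsGE ((shiftFunctor (DCoh.D X) (-m)).obj (DCoh.inD X (skyM x))) m :=
      t.isGE_of_iso (skyShiftIso x m) m
    have : ψ = 0 := t.from_truncGE_obj_ext (hψ0.trans comp_zero.symm)
    refine hg₁ ?_
    rw [hψ, this]
    exact comp_zero

end Groth.Agent.H02CA.Sky
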