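import Groth.Agent.H16Derived.QCohD.MV
import Groth.Agent.H16Derived.KFlat.PerfNoeth
import Groth.Agent.H06Mod.StalkPullback
import Groth.Agent.H10Coh.Support
import Groth.Prelude.Def_CohB1
import Mathlib.LinearAlgebra.Dual.Lemmas
import Mathlib.RingTheory.Nakayama

/-!
# Supports, morphisms in the derived category, and the skyscraper at a closed point
-/

set_option autoImplicit false
set_option linter.style.haveILetI false

universe u

open CategoryTheory CategoryTheory.Limits CategoryTheory.Pretriangulated AlgebraicGeometry Opposite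
  TopologicalSpace

attribute [local instance] HasDerivedCategory.standard

namespace Groth.Agent.H02CA.Sky

open Groth.Agent.H16Derived.KFlat Groth.Agent.H16Derived.KFlat.Stalk Groth.Agent.H06Mod

variable {X : Scheme.{u}}

theorem isZero_restrict_of_support {M : X.Modules} {U : X.Opens}
    (h : ∀ y ∈ U, y ∉ CohB1.support M) : IsZero (M.restrict U.ι) :=
  H10Coh.restrict_subsingleton M fun y hy O hyO s => by
    haveI : Subsingleton (M.presheaf.stalk y) := not_not.1 (h y hy)
    exact Subsingleton.elim _ _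

/-- A complex without cohomology over `U` restricts to zero. -/
theorem isZero_rd {K : DCoh.D X} {U : X.Opens}
    (h : ∀ (i : ℤ), ∀ y ∈ U, y ∉ CohB1.support (DCoh.HD K i)) :
    IsZero ((DCoh.restrictD U.ι).obj K) := by
  let L := (DCoh.restrictD U.ι).obj K
  have hz : ∀ i : ℤ, IsZero ((DerivedCategory.homologyFunctor _ i).obj L) := fun i =>
    (isZero_restrict_of_support (h i)).of_iso (homologyRdIso U.ι K i)
  haveI : IsIso (0 : L ⟶ L) := (DerivedCategory.isIso_iff _ _).2 fun i =>
    isIso_of_source_target_iso_zero _ (hz i).isoZero (hz i).isoZero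
  exact (IsZero.iff_id_eq_zero L).2
    (by rw [← cancel_mono (0 : L ⟶ L), comp_zero, comp_zero])

theorem exists_open_isZero_rd {K : DCoh.D X} {U : X.Opens} (h : IsZero ((DCoh.restrictD U.ι).obj K))
    (i : ℤ) {y : X} (hy : y ∈ U) : y ∉ CohB1.support (DCoh.HD K i) := by
  have hz : IsZero ((Scheme.Modules.restrictFunctor U.ι).obj (DCoh.HD K i)) :=
    ((DerivedCategory.homologyFunctor _ i).map_isZero h).of_iso (homologyRdIso U.ι K i).symm
  have hs : IsZero (TopCat.Presheaf.stalk (C := Ab.{u}) (DCoh.HD K i).presheaf y) := by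
    refine IsZero.of_iso ?_ ((Scheme.Modules.restrictStalkNatIso U.ι ⟨y, hy⟩).app _).symm
    exact (Scheme.Modules.toPresheaf _ ⋙ TopCat.Presheaf.stalkFunctor Ab.{u}
      (⟨y, hy⟩ : (U : Scheme.{u}))).map_isZero hz
  exact not_not.2 (AddCommGrpCat.subsingleton_of_isZero hs)

/-- Morphisms between complexes with disjoint closed supports vanish. -/
theorem hom_eq_zero_of_disjoint {K L : DCoh.D X} (φ : K ⟶ L) {U V : X.Opens} (hUV : U ⊔ V = ⊤)
    (hK : IsZero ((DCoh.restrictD U.ι).obj K))
    (hL : IsZero ((DCoh.restrictD V.ι).obj L)) : φ = 0 := by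
  haveI := preservesFiniteLimits_extZero U
  haveI := preservesFiniteLimits_extZero V
  haveI := preservesFiniteLimits_extZero (U ⊓ V)
  obtain ⟨a, b, c, hT⟩ := Groth.Agent.H16Derived.QCohD.MV.exists_triangle hUV K
  have zU : IsZero ((CxOX.extZeroD U.ι).obj ((DCoh.restrictD U.ι).obj K)) :=
    (CxOX.extZeroD U.ι).map_isZero hK
  have zUV : IsZero (((CxOX.extZeroD (U ⊓ V).ι).obj ((DCoh.restrictD (U ⊓ V).ι).obj K))⟦(1 : ℤ)⟧) :=
    (shiftFunctor (DCoh.D X) (1 : ℤ)).map_isZero
      ((CxOX.extZeroD (U ⊓ V).ι).map_isZero (isZero_rd fun i y hy => exists_open_isZero_rd hK i hy.1))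
  let adj : CxOX.extZeroD V.ι ⊣ DCoh.restrictD V.ι :=
    Groth.Agent.H16Derived.ExactAdj.mapDerivedCategoryAdj (CxOX.extZeroAdj V.ι)
  have hb : b ≫ φ = 0 := by
    refine biprod.hom_ext' _ _ (zU.eq_of_src _ _) ?_
    apply (adj.homEquiv _ _).injective
    exact hL.eq_of_tgt _ _
  obtain ⟨ψ, hψ⟩ := Triangle.yoneda_exact₃ _ hT φ hb
  rw [hψ, zUV.eq_of_src ψ 0]
  exact comp_zero

section Skyscraper

variable (x : X)

/-- The skyscraper with value the residue field. -/
noncomputable abbrev skyM : X.Modules :=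
  (Coh.push (X.fromSpecResidueField x)).obj (Coh.structureModule _)

variable {x}

theorem subsingleton_skyM {W : X.Opens} (h : x ∉ W) : Subsingleton Γ(skyM x, W) := by
  have hb : X.fromSpecResidueField x ⁻¹ᵁ W = ⊥ := by
    rw [eq_bot_iff]
    intro p hp
    exact (h (by simpa [Scheme.fromSpecResidueField_apply] using hp)).elim
  change Subsingleton Γ(Spec (X.residueField x), X.fromSpecResidueField x ⁻¹ᵁ W)
  rw [hb]
  infer_instance

theorem subsingleton_stalk_of_sections {M : X.Modules} (hM : ∀ W : X.Opens, x ∉ W → Subsingleton Γ(M, W))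
    (hx : IsClosed ({x} : Set X)) {y : X} (hy : y ≠ x) : Subsingleton (M.presheaf.stalk y) := by
  refine subsingleton_of_forall_eq 0 fun a => ?_
  obtain ⟨O, hO, s, rfl⟩ := TopCat.Presheaf.exists_germ_eq M.presheaf a
  let O' : X.Opens := O ⊓ ⟨({x} : Set X)ᶜ, hx.isOpen_compl⟩
  haveI := hM O' fun h => h.2 rfl
  exact H10Coh.germ_eq_zero_of_le M (inf_le_left : O' ≤ O) ⟨hO, hy⟩ s (Subsingleton.elim _ _)

theorem support_skyM (hx : IsClosed ({x} : Set X)) {y : X} (hy : y ≠ x) :
    y ∉ CohB1.support (skyM x) :=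
  not_not.2 (subsingleton_stalk_of_sections (fun _ h => subsingleton_skyM h) hx hy)

theorem subsingleton_sky {N : Type u} [AddCommGroup N] [Module (X.presheaf.stalk x) N] {W : X.Opens}
    (h : x ∉ W) : Subsingleton Γ(sky x N, W) :=
  ⟨fun a b => skyEval_ext x N fun hW => (h hW).elim⟩

/-- The germ at `x` of the unit section. -/
noncomputable def oneGerm : (skyM x).presheaf.stalk x :=
  (skyM x).presheaf.germ ⊤ x trivial
    (show Γ(Spec (X.residueField x), X.fromSpecResidueField x ⁻¹ᵁ ⊤) from 1)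

theorem oneGerm_ne_zero : oneGerm (x := x) ≠ 0 := by
  intro h
  obtain ⟨W, hxW, i, i', hW⟩ := TopCat.Presheaf.germ_eq (skyM x).presheaf (U := ⊤) (V := ⊤) x (Opens.mem_top x) (Opens.mem_top x) _ 0
    (h.trans (map_zero _).symm)
  rw [map_zero] at hW
  have : Nonempty (X.fromSpecResidueField x ⁻¹ᵁ W : (Spec (X.residueField x)).Opens) := by
    refine ⟨⟨(inferInstance : Nonempty (Spec (X.residueField x))).some, ?_⟩⟩
    simpa [Scheme.fromSpecResidueField_apply] using hxW
  have h1 : (Spec (X.residueField x)).presheaf.map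
      ((Opens.map (X.fromSpecResidueField x).base).map i).op 1 = 0 := hW
  rw [map_one] at h1
  exact one_ne_zero h1

theorem smul_oneGerm_eq_zero (r : X.presheaf.stalk x)
    (hr : r ∈ IsLocalRing.maximalIdeal (X.presheaf.stalk x)) : r • oneGerm (x := x) = 0 := by
  obtain ⟨V, hV, f, rfl⟩ := X.presheaf.exists_germ_eq r
  let o : Γ(skyM x, V) := (skyM x).presheaf.map (homOfLE (le_top : V ≤ ⊤)).op
    (show Γ(Spec (X.residueField x), X.fromSpecResidueField x ⁻¹ᵁ ⊤) from 1)
  have ho : oneGerm (x := x) = (skyM x).presheaf.germ V x hV o :=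
    (TopCat.Presheaf.germ_res_apply (skyM x).presheaf _ x hV _).symm
  rw [ho, ← germ_smul]
  have hf : (X.fromSpecResidueField x).app V f = 0 := by
    apply eq_zero_of_basicOpen_eq_bot
    apply Opens.ext
    rw [← Scheme.preimage_basicOpen, Opens.coe_bot, ← Set.subset_empty_iff]
    intro p hp
    have : x ∈ X.basicOpen f := by
      have hp' : X.fromSpecResidueField x p ∈ X.basicOpen f := hp
      rwa [Scheme.fromSpecResidueField_apply] at hp'
    exact (mem_nonunits_iff.1 hr) ((Scheme.mem_basicOpen X f x hV).1 this)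
  have : f • o = 0 := by
    change (X.fromSpecResidueField x).app V f *
      (show Γ(Spec (X.residueField x), X.fromSpecResidueField x ⁻¹ᵁ V) from o) = 0
    rw [hf]
    exact zero_mul _
  rw [this, map_zero]

/-- A module of finite type with nonzero stalk at the closed point `x` maps nontrivially to the
skyscraper at `x`. -/
theorem exists_ne_zero_to_skyM (hx : IsClosed ({x} : Set X)) {M : X.Modules} (hM : CohB1.IsFT M)
    (hs : x ∈ CohB1.support M) : ∃ φ : M ⟶ skyM x, φ ≠ 0 := by
  haveI := finite_stalk M hM x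
  let R := X.presheaf.stalk x
  let m := IsLocalRing.maximalIdeal R
  let N := (skyM x).presheaf.stalk x
  let W := M.presheaf.stalk x ⧸ (m • ⊤ : Submodule R (M.presheaf.stalk x))
  letI : Field (R ⧸ m) := Ideal.Quotient.field m
  have hW : Nontrivial W := by
    refine Submodule.Quotient.nontrivial_iff.2 fun htop => hs ?_
    have hle : (⊤ : Submodule R (M.presheaf.stalk x)) ≤ m • ⊤ := htop.ge
    have := Submodule.eq_bot_of_le_smul_of_le_jacobson_bot m ⊤ Module.Finite.fg_top hle
      (IsLocalRing.jacobson_eq_maximalIdeal ⊥ bot_ne_top).ge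
    exact (Submodule.subsingleton_iff R).1 (subsingleton_of_bot_eq_top this.symm)
  obtain ⟨w, hw⟩ := exists_ne (0 : W)
  obtain ⟨f, hf⟩ : ∃ f : Module.Dual (R ⧸ m) W, f w ≠ 0 := by
    by_contra! h
    exact hw ((Module.forall_dual_apply_eq_zero_iff (R ⧸ m) w).1 h)
  let t : (R ⧸ m) →ₗ[R] N := Submodule.liftQ m (LinearMap.toSpanSingleton R N oneGerm)
    fun r hr => smul_oneGerm_eq_zero r hr
  let ψ : M.presheaf.stalk x →ₗ[R] N :=
    t ∘ₗ f.restrictScalars R ∘ₗ (Submodule.mkQ _)
  let η : skyM x ⟶ sky x N := homOfStalk LinearMap.id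
  haveI : IsIso η := by
    refine isIso_of_stalk _ fun y => ?_
    by_cases hy : y = x
    · subst hy
      have hinj : ∀ a, stalkOfHom (𝟙 (sky y N)) a = 0 → a = 0 := by
        intro a ha
        obtain ⟨O, hO, s, rfl⟩ := TopCat.Presheaf.exists_germ_eq (sky y N).presheaf a
        rw [stalkOfHom_germ] at ha
        have : s = 0 := skyEval_ext y N fun _ => ha.trans (map_zero _).symm
        rw [this, map_zero]
      have key : ∀ b, stalkOfHom (𝟙 (sky y N)) ((DerSch.stalkFunctor X y).map η b) = b := by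
        intro b
        obtain ⟨O, hO, s, rfl⟩ := TopCat.Presheaf.exists_germ_eq (skyM y).presheaf b
        change stalkOfHom (𝟙 (sky y N))
          (Algz.stalkMapAb η y ((skyM y).presheaf.germ O y hO s)) = _
        rw [show Algz.stalkMapAb η y ((skyM y).presheaf.germ O y hO s) =
          (sky y N).presheaf.germ O y hO (η.app O s) from H10Coh.germ_app η O y hO s,
          stalkOfHom_germ]
        rfl
      refine (ConcreteCategory.isIso_iff_bijective _).2 ⟨fun a b h => ?_, fun a => ?_⟩
      · rw [← key a, ← key b, h]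
      · refine ⟨stalkOfHom (𝟙 (sky y N)) a, sub_eq_zero.1 (hinj _ ?_)⟩
        exact (map_sub (stalkOfHom (𝟙 (sky y N))).hom _ _).trans (sub_eq_zero.2 (key _))
    · haveI := subsingleton_stalk_of_sections (M := skyM x) (fun _ h => subsingleton_skyM h) hx hy
      haveI := subsingleton_stalk_of_sections (M := sky x N) (fun _ h => subsingleton_sky h) hx hy
      exact isIso_of_source_target_iso_zero _
        (@ModuleCat.isZero_of_subsingleton _ _ _ ‹Subsingleton ((skyM x).presheaf.stalk y)›).isoZero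
        (@ModuleCat.isZero_of_subsingleton _ _ _ ‹Subsingleton ((sky x N).presheaf.stalk y)›).isoZero
  refine ⟨homOfStalk ψ ≫ inv η, fun h => ?_⟩
  have h0 : homOfStalk ψ = 0 := by
    rw [← cancel_mono (inv η), h, zero_comp]
  obtain ⟨a, rfl⟩ := Submodule.Quotient.mk_surjective _ w
  obtain ⟨O, hO, s, rfl⟩ := TopCat.Presheaf.exists_germ_eq M.presheaf a
  have h1 := skyEval_homOfStalk ψ O hO s
  rw [h0] at h1
  have h2 : ψ (M.presheaf.germ O x hO s) = 0 := h1.symm.trans (by simp)
  obtain ⟨c, hc⟩ := Ideal.Quotient.mk_surjective (f (Submodule.Quotient.mk (M.presheaf.germ O x hO s)))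
  have h3 : c • oneGerm (x := x) = 0 := by
    have : ψ (M.presheaf.germ O x hO s) = t (Ideal.Quotient.mk m c) := by rw [hc]; rfl
    rw [← h2, this]; rfl
  refine hf ?_
  rw [← hc, Ideal.Quotient.eq_zero_iff_mem]
  by_contra hcm
  have hu : IsUnit c := not_not.1 hcm
  exact oneGerm_ne_zero (hu.smul_eq_zero.1 h3)

end Skyscraper

end Groth.Agent.H02CA.Sky
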